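import Groth.Agent.FixConnLib.Semi
import Groth.Agent.S5442
import Groth.Agent.S3908
import Groth.Agent.RCentreLib.SelfCent
import Groth.Agent.ImgTorusLib.SameImage
import Groth.Agent.MaxTorConjLib.Geom
import Groth.Agent.OrbitLib.Homogeneous
import Groth.Agent.WeilResLib.GrpGen

/-!
# Fixed points of a torus acting on a group: smoothness and connectedness of the fibres
-/

set_option autoImplicit false
set_option linter.style.haveILetI false
set_option backward.isDefEq.respectTransparency false

universe u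

open CategoryTheory CategoryTheory.Limits MonoidalCategory CartesianMonoidalCategory AlgebraicGeometry
open scoped MonObj

noncomputable section

attribute [-instance] CategoryTheory.Hom.commGroup

namespace Groth.Agent.FixConn

theorem isMultTypeFT_of_isTorus {S : Scheme.{u}} {T : Over S} [GrpObj T] (hT : Red.IsTorus T) :
    SGA3x.IsMultTypeFT T := by
  obtain ⟨S', f, hflat, hsurj, hcov, hloc⟩ := hT
  refine ⟨S', f, hflat, hsurj, hcov, fun x => ?_⟩
  obtain ⟨U, hU, r, hr⟩ := hloc x
  exact ⟨U, hU, (Fin r → ℤ), inferInstance, inferInstance, hr⟩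

theorem irreducibleSpace_tensor_field {k : Type u} [Field k] (A B : Over (Spec (CommRingCat.of k))) [GrpObj A] [GrpObj B]
    [LocallyOfFiniteType A.hom] [ConnectedSpace A.left] [LocallyOfFiniteType B.hom] [ConnectedSpace B.left] :
    IrreducibleSpace (A ⊗ B).left := by
  haveI := CommSubLib.geometricallyIrreducible_of_connected A
  haveI := CommSubLib.geometricallyIrreducible_of_connected B
  haveI : Subsingleton ↥(Spec (CommRingCat.of k)) := inferInstanceAs (Subsingleton (PrimeSpectrum k))
  haveI : Nonempty ↥(Spec (CommRingCat.of k)) := inferInstanceAs (Nonempty (PrimeSpectrum k))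
  haveI : IrreducibleSpace B.left := GeometricallyIrreducible.irreducibleSpace_of_subsingleton B.hom
  haveI := GrpField.universallyOpen_field A.hom
  exact inferInstanceAs (IrreducibleSpace ↥(pullback A.hom B.hom))

theorem connectedSpace_torus {k : Type u} [Field k] {T : Over (Spec (CommRingCat.of k))} [GrpObj T]
    (hT : Red.IsTorus T) : ConnectedSpace ↥T.left := by
  have h := Groth.Agent.ImgTorus.isConnected_fibre_torus hT (IsLocalRing.closedPoint k)
  have e : T.hom.base ⁻¹' {IsLocalRing.closedPoint k} = Set.univ :=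
    Set.eq_univ_of_forall fun x => @Subsingleton.elim (PrimeSpectrum k) _ _ _
  exact connectedSpace_iff_univ.2 (e ▸ h)

variable {S : Scheme.{u}} {Q H : Over S} [GrpObj Q] [GrpObj H] (a : AlgGrp.Action Q H)

/-- The action fixes the unit. -/
theorem smulPt_oneH (hmul : ∀ (X : Over S) (q : X ⟶ Q) (h h' : X ⟶ H),
    lift q (h * h') ≫ a.act = (lift q h ≫ a.act) * (lift q h' ≫ a.act)) {X : Over S} (q : X ⟶ Q) :
    smulPt a q (1 : X ⟶ H) = 1 :=
  map_one (autPt a hmul X q)

theorem exists_fixed_connected (hQ : Red.IsTorus Q) [IsSeparated H.hom] [Smooth H.hom]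
    (hmul : ∀ (X : Over S) (q : X ⟶ Q) (h h' : X ⟶ H),
      lift q (h * h') ≫ a.act = (lift q h ≫ a.act) * (lift q h' ≫ a.act)) :
    ∃ (F : Over S) (f : F ⟶ H), IsClosedImmersion f.left ∧ Smooth F.hom ∧
      (∀ (X : Over S) (h : X ⟶ H), (∃ x : X ⟶ F, x ≫ f = h) ↔
        ∀ (X' : Over S) (g : X' ⟶ X) (q : X' ⟶ Q), lift q (g ≫ h) ≫ a.act = g ≫ h) ∧
      (IsAffineHom H.hom → (∀ s : S, _root_.IsConnected (H.hom.base ⁻¹' {s})) →
        IsAffineHom F.hom ∧ ∀ s : S, _root_.IsConnected (F.hom.base ⁻¹' {s})) := by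
  obtain ⟨F, gF, z, hz, hcl, hsm, hZ⟩ := S5442.result S Q H (isMultTypeFT_of_isTorus hQ) a hmul
  haveI := hcl
  haveI := hz
  refine ⟨F, z, hcl, hsm, hZ, fun hH hconn => ?_⟩
  haveI := hH
  haveI hFaff : IsAffineHom F.hom := by rw [← Over.w z]; infer_instance
  refine ⟨hFaff, fun s => ?_⟩
  haveI hQaff : IsAffineHom Q.hom := Groth.Agent.MultEq.isAffineHom_of_isMultTypeFT (isMultTypeFT_of_isTorus hQ)
  -- the semidirect product, the torus inside and its centraliser
  letI gG : GrpObj (semi a) := semiGrp a hmul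
  let i : Q ⟶ semi a := pair a 1 (𝟙 Q)
  haveI hi : IsMonHom i :=
    { one_hom := by
        show η[Q] ≫ pair a 1 (𝟙 Q) = η[semi a]
        rw [comp_pair, MonObj.comp_one, Category.comp_id, MonObj.one_eq_one, MonObj.one_eq_one, semi_one a hmul]
      mul_hom := by
        show μ[Q] ≫ pair a 1 (𝟙 Q) = (i ⊗ₘ i) ≫ μ[semi a]
        rw [comp_pair, MonObj.comp_one, Category.comp_id, MonObj.mul_eq_mul, MonObj.mul_eq_mul (M := semi a),
          MonObj.comp_mul, tensorHom_fst, tensorHom_snd, comp_pair, comp_pair, semi_mul a hmul,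
          MonObj.comp_one, MonObj.comp_one, smulPt_oneH a hmul, _root_.mul_one, Category.comp_id, Category.comp_id] }
  haveI : Mono i := mono_of_mono_fac (pair_prQ a 1 (𝟙 Q))
  haveI : Mono z := (Over.forget S).mono_of_mono_map (inferInstanceAs (Mono z.left))
  let c : F ⊗ Q ⟶ semi a := pair a (fst F Q ≫ z) (snd F Q)
  have hfix : ∀ {Y : Over S} (b : Y ⟶ F) (q : Y ⟶ Q), smulPt a q (b ≫ z) = b ≫ z := fun {Y} b q => by
    have := (hZ Y (b ≫ z)).1 ⟨b, rfl⟩ Y (𝟙 Y) q
    rwa [Category.id_comp] at this
  have hc : Red.IsCentralizerOf i c := by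
    refine ⟨{ one_hom := ?_, mul_hom := ?_ }, ?_, fun X g => ⟨?_, ?_⟩⟩
    · show η[F ⊗ Q] ≫ pair a (fst F Q ≫ z) (snd F Q) = η[semi a]
      rw [comp_pair, MonObj.one_eq_one (M := semi a), semi_one a hmul]
      congr 1
      · rw [← Category.assoc, MonObj.one_eq_one, MonObj.one_comp, MonObj.one_comp]
      · rw [MonObj.one_eq_one, MonObj.one_comp]
    · show μ[F ⊗ Q] ≫ pair a (fst F Q ≫ z) (snd F Q) = (c ⊗ₘ c) ≫ μ[semi a]
      rw [comp_pair, MonObj.mul_eq_mul (M := semi a), MonObj.comp_mul, tensorHom_fst, tensorHom_snd, comp_pair, comp_pair,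
        semi_mul a hmul, ← Category.assoc (snd _ _) (fst F Q) z, hfix, MonObj.mul_eq_mul]
      congr 1
      · rw [← Category.assoc, MonObj.mul_comp, MonObj.mul_comp, Category.assoc, Category.assoc]
      · rw [MonObj.mul_comp]
    · refine ⟨fun x y e => ?_⟩
      have e1 := congrArg (· ≫ prH a) e
      have e2 := congrArg (· ≫ prQ a) e
      simp only [c, Category.assoc, pair_prH, pair_prQ] at e1 e2
      refine CartesianMonoidalCategory.hom_ext _ _ ?_ e2
      rw [← cancel_mono z, Category.assoc, Category.assoc, e1]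
    · rintro ⟨w, rfl⟩ X' x q
      show (x ≫ w ≫ pair a (fst F Q ≫ z) (snd F Q)) * (q ≫ pair a 1 (𝟙 Q)) =
        (q ≫ pair a 1 (𝟙 Q)) * (x ≫ w ≫ pair a (fst F Q ≫ z) (snd F Q))
      simp only [comp_pair, Category.comp_id, MonObj.comp_one, semi_mul a hmul]
      rw [smulPt_oneH a hmul, _root_.mul_one, _root_.one_mul]
      simp only [← Category.assoc _ _ z]
      rw [hfix, RCentre.commute_torus hQ q]
    · intro hcomm
      obtain ⟨b, hb⟩ := (hZ X (g ≫ prH a)).2 fun X' x q => by
        have e := hcomm X' x q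
        rw [← pair_eta a g] at e
        simp only [i, comp_pair, Category.comp_id, MonObj.comp_one, semi_mul a hmul] at e
        have e1 := congrArg (· ≫ prH a) e
        simp only [pair_prH] at e1
        rw [smulPt_oneH a hmul, _root_.mul_one, _root_.one_mul] at e1
        exact e1.symm
      refine ⟨lift b (g ≫ prQ a), ?_⟩
      show lift b (g ≫ prQ a) ≫ pair a (fst F Q ≫ z) (snd F Q) = g
      rw [comp_pair, lift_fst_assoc, lift_snd, hb, pair_eta]
  -- the fibre
  let t := S.fromSpecResidueField s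
  haveI := DiagRep.isMonHom_bc_map t i
  haveI := BorelLib.mono_bc t i
  haveI : IsAffineHom (semi a).hom := by
    haveI : IsAffineHom (snd H Q).left := MorphismProperty.pullback_snd (P := @IsAffineHom) _ _ hH
    rw [show (semi a).hom = (snd H Q).left ≫ Q.hom from (Over.w (snd H Q)).symm]
    infer_instance
  haveI : IsAffineHom (Red.bc t (semi a)).hom := MorphismProperty.pullback_snd (P := @IsAffineHom) _ _ inferInstance
  haveI : IsAffine (Red.bc t (semi a)).left := isAffine_of_isAffineHom (Red.bc t (semi a)).hom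
  have hQk := RedRank.isTorus_bc hQ t
  haveI : Smooth Q.hom := Groth.Agent.MaxTorConj.smooth_of_isTorus hQ
  haveI : Smooth (semi a).hom := by
    haveI : Smooth (snd H Q).left := MorphismProperty.pullback_snd (P := @Smooth) _ _ ‹Smooth H.hom›
    rw [show (semi a).hom = (snd H Q).left ≫ Q.hom from (Over.w (snd H Q)).symm]
    infer_instance
  haveI : Smooth (Red.bc t (semi a)).hom := MorphismProperty.pullback_snd (P := @Smooth) _ _ inferInstance
  haveI : Smooth (Red.bc t H).hom := MorphismProperty.pullback_snd (P := @Smooth) _ _ ‹Smooth H.hom›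
  haveI : Smooth (Red.bc t Q).hom := MorphismProperty.pullback_snd (P := @Smooth) _ _ ‹Smooth Q.hom›
  haveI : ConnectedSpace (Red.bc t H).left := WeilRes.connectedSpace_fiber_of_isConnected H.hom (hconn s)
  haveI : ConnectedSpace (Red.bc t Q).left := connectedSpace_torus hQk
  haveI : ConnectedSpace (Red.bc t (semi a)).left := by
    haveI := irreducibleSpace_tensor_field (Red.bc t H) (Red.bc t Q)
    let e := (Over.forget _).mapIso (Functor.Monoidal.μIso (Over.pullback t) H Q)
    haveI : ConnectedSpace ↥((Over.forget (Spec (S.residueField s))).obj ((Over.pullback t).obj H ⊗ (Over.pullback t).obj Q)) :=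
      inferInstanceAs (ConnectedSpace ↥(Red.bc t H ⊗ Red.bc t Q).left)
    haveI : Surjective e.hom := inferInstance
    exact e.hom.surjective.connectedSpace e.hom.continuous
  haveI := S3908.result (S.residueField s) (Red.bc t (semi a)) (Red.bc t Q) ((Over.pullback t).map i) hQk
    (Red.bc t (F ⊗ Q)) ((Over.pullback t).map c) (BorelLib.isCentralizerOf_bc t hc)
  haveI : ConnectedSpace (Red.bc t F).left := by
    have hr : (Over.pullback t).map (lift (𝟙 F) (1 : F ⟶ Q)) ≫ (Over.pullback t).map (fst F Q) = 𝟙 _ := by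
      rw [← Functor.map_comp, lift_fst, CategoryTheory.Functor.map_id]
    have hs : Function.Surjective ((Over.pullback t).map (fst F Q)).left := fun p =>
      ⟨((Over.pullback t).map (lift (𝟙 F) (1 : F ⟶ Q))).left p, by
        rw [← Scheme.Hom.comp_apply, ← Over.comp_left, hr, Over.id_left]; rfl⟩
    exact hs.connectedSpace ((Over.pullback t).map (fst F Q)).left.continuous
  haveI : ConnectedSpace ↥(F.hom.fiber s) := inferInstanceAs (ConnectedSpace ↥(Red.bc t F).left)
  haveI : ConnectedSpace ↥(F.hom.base ⁻¹' {s}) :=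
    (F.hom.fiberHomeo s).surjective.connectedSpace (F.hom.fiberHomeo s).continuous
  exact isConnected_iff_connectedSpace.2 inferInstance

end Groth.Agent.FixConn

end
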