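import Groth.Prelude.Def_AlgGrp
import Mathlib.CategoryTheory.Monoidal.Cartesian.Grp
import Mathlib.CategoryTheory.Monoidal.Cartesian.Over
import Mathlib.GroupTheory.SemidirectProduct

/-!
# The semidirect product of a group object by a group acting through automorphisms
-/

set_option autoImplicit false
set_option linter.style.haveILetI false

universe u

open CategoryTheory MonoidalCategory CartesianMonoidalCategory AlgebraicGeometry Opposite
open scoped MonObj

noncomputable section

attribute [-instance] CategoryTheory.Hom.commGroup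

namespace Groth.Agent.FixConn

variable {S : Scheme.{u}} {H Q : Over S} [GrpObj H] [GrpObj Q] (a : AlgGrp.Action Q H)

/-- The action on points. -/
def smulPt {X : Over S} (q : X ⟶ Q) (h : X ⟶ H) : X ⟶ H := lift q h ≫ a.act

theorem smulPt_one {X : Over S} (h : X ⟶ H) : smulPt a 1 h = h := by
  show lift (toUnit X ≫ η[Q]) h ≫ a.act = h
  rw [← lift_whiskerRight_assoc (toUnit X) h η[Q], a.one_act, leftUnitor_hom, lift_snd]

theorem smulPt_mul {X : Over S} (q q' : X ⟶ Q) (h : X ⟶ H) :
    smulPt a (q * q') h = smulPt a q (smulPt a q' h) := by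
  show lift (lift q q' ≫ μ[Q]) h ≫ a.act = lift q (lift q' h ≫ a.act) ≫ a.act
  rw [← lift_whiskerRight_assoc, a.mul_act, lift_lift_associator_hom_assoc, lift_whiskerLeft_assoc]

theorem comp_smulPt {X X' : Over S} (f : X' ⟶ X) (q : X ⟶ Q) (h : X ⟶ H) :
    f ≫ smulPt a q h = smulPt a (f ≫ q) (f ≫ h) := comp_lift_assoc f q h a.act

variable (hmul : ∀ (X : Over S) (q : X ⟶ Q) (h h' : X ⟶ H),
    lift q (h * h') ≫ a.act = (lift q h ≫ a.act) * (lift q h' ≫ a.act))

/-- The action of a point as an automorphism of the group of points. -/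
def autPt (X : Over S) : (X ⟶ Q) →* MulAut (X ⟶ H) where
  toFun q :=
    { toFun := smulPt a q
      invFun := smulPt a q⁻¹
      left_inv := fun h => by rw [← smulPt_mul, inv_mul_cancel, smulPt_one]
      right_inv := fun h => by rw [← smulPt_mul, mul_inv_cancel, smulPt_one]
      map_mul' := hmul X q }
  map_one' := MulEquiv.ext fun h => smulPt_one a h
  map_mul' q q' := MulEquiv.ext fun h => smulPt_mul a q q' h

theorem autPt_apply {X : Over S} (q : X ⟶ Q) (h : X ⟶ H) : autPt a hmul X q h = smulPt a q h := rfl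

/-- Pullback of points of the semidirect product. -/
def semiMap {X X' : Over S} (f : X' ⟶ X) :
    SemidirectProduct (X ⟶ H) (X ⟶ Q) (autPt a hmul X) →* SemidirectProduct (X' ⟶ H) (X' ⟶ Q) (autPt a hmul X') where
  toFun p := ⟨f ≫ p.left, f ≫ p.right⟩
  map_one' := SemidirectProduct.ext (MonObj.comp_one f) (MonObj.comp_one f)
  map_mul' p p' := SemidirectProduct.ext
    (by
      show f ≫ (p.left * autPt a hmul X p.right p'.left) = (f ≫ p.left) * autPt a hmul X' (f ≫ p.right) (f ≫ p'.left)
      rw [MonObj.comp_mul, autPt_apply, autPt_apply, comp_smulPt])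
    (MonObj.comp_mul f _ _)

/-- The presheaf of semidirect products. -/
def semiPsh : (Over S)ᵒᵖ ⥤ GrpCat.{u} where
  obj X := GrpCat.of (SemidirectProduct (X.unop ⟶ H) (X.unop ⟶ Q) (autPt a hmul X.unop))
  map f := GrpCat.ofHom (semiMap a hmul f.unop)
  map_id X := by ext p <;> exact Category.id_comp _
  map_comp f g := by ext p <;> exact Category.assoc _ _ _

/-- The carrier of the semidirect product. -/
def semi (_a : AlgGrp.Action Q H) : Over S := H ⊗ Q

/-- Points of the semidirect product. -/
def pair {X : Over S} (h : X ⟶ H) (q : X ⟶ Q) : X ⟶ semi a := lift h q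

/-- The first coordinate. -/
def prH : semi a ⟶ H := fst H Q

/-- The second coordinate. -/
def prQ : semi a ⟶ Q := snd H Q

theorem pair_prH {X : Over S} (h : X ⟶ H) (q : X ⟶ Q) : pair a h q ≫ prH a = h := lift_fst h q

theorem pair_prQ {X : Over S} (h : X ⟶ H) (q : X ⟶ Q) : pair a h q ≫ prQ a = q := lift_snd h q

theorem pair_eta {X : Over S} (f : X ⟶ semi a) : pair a (f ≫ prH a) (f ≫ prQ a) = f := lift_comp_fst_snd f

theorem comp_pair {X X' : Over S} (f : X' ⟶ X) (h : X ⟶ H) (q : X ⟶ Q) :
    f ≫ pair a h q = pair a (f ≫ h) (f ≫ q) := comp_lift f h q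

/-- The representation by the product. -/
def semiRep : (semiPsh a hmul ⋙ forget GrpCat).RepresentableBy (semi a) where
  homEquiv {X} :=
    { toFun := fun f => ⟨f ≫ prH a, f ≫ prQ a⟩
      invFun := fun p => pair a p.left p.right
      left_inv := fun f => pair_eta a f
      right_inv := fun p => SemidirectProduct.ext (pair_prH a _ _) (pair_prQ a _ _) }
  homEquiv_comp f g := SemidirectProduct.ext (Category.assoc _ _ _) (Category.assoc _ _ _)

/-- The semidirect product. -/
@[reducible] def semiGrp : GrpObj (semi a) := GrpObj.ofRepresentableBy (semi a) _ (semiRep a hmul)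

include hmul in
theorem semi_mul {X : Over S} (h h' : X ⟶ H) (q q' : X ⟶ Q) :
    letI := semiGrp a hmul
    pair a h q * pair a h' q' = pair a (h * smulPt a q h') (q * q') := by
  letI := semiGrp a hmul
  let P : semi a ⊗ semi a ⟶ H := (fst _ _ ≫ prH a) * smulPt a (fst _ _ ≫ prQ a) (snd _ _ ≫ prH a)
  have hμ : (μ : semi a ⊗ semi a ⟶ semi a) = pair a P ((fst _ _ ≫ prQ a) * (snd _ _ ≫ prQ a)) := rfl
  rw [Hom.mul_def, hμ, comp_pair, MonObj.comp_mul, MonObj.comp_mul, comp_smulPt, lift_fst_assoc, lift_fst_assoc,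
    lift_snd_assoc, lift_snd_assoc, pair_prH, pair_prQ, pair_prH, pair_prQ]

include hmul in
theorem semi_one {X : Over S} :
    letI := semiGrp a hmul
    (1 : X ⟶ semi a) = pair a 1 1 := by
  letI := semiGrp a hmul
  have h1 : pair a (1 : X ⟶ H) (1 : X ⟶ Q) * pair a 1 1 = pair a 1 1 := by
    rw [semi_mul a hmul, smulPt_one, _root_.mul_one, _root_.mul_one]
  exact (mul_eq_left.1 h1).symm

end Groth.Agent.FixConn

end
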